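import Mathlib
import Cfsg.Agent.UnitFive.Data

/-! Data for the action of `PSU₃(5)` on 50 points, on the lattice side and on the unitary side. -/

set_option autoImplicit false
set_option maxRecDepth 10000

namespace CfsgLib.HSFifty

open CfsgLib.UnitFive

/-- First matrix. -/
def matR : M25 := !![⟨1, 1⟩, ⟨1, 2⟩, ⟨2, 0⟩; ⟨4, 4⟩, ⟨2, 3⟩, ⟨2, 3⟩; ⟨0, 4⟩, ⟨0, 2⟩, ⟨3, 2⟩]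

/-- Second matrix. -/
def matH : M25 := !![⟨0, 0⟩, ⟨4, 1⟩, ⟨0, 2⟩; ⟨0, 0⟩, ⟨0, 2⟩, ⟨4, 4⟩; ⟨1, 0⟩, ⟨0, 0⟩, ⟨0, 0⟩]

def permRChunk : Fin 5 → Fin 10 → Fin 50 := ![
  ![0, 2, 4, 6, 7, 9, 10, 12, 14, 16],
  ![18, 19, 1, 21, 17, 23, 25, 27, 29, 31],
  ![15, 26, 30, 34, 36, 38, 24, 40, 42, 3],
  ![11, 22, 32, 20, 33, 35, 13, 45, 5, 44],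
  ![8, 41, 48, 43, 37, 46, 39, 49, 47, 28]]

def permR (i : Fin 50) : Fin 50 := permRChunk ⟨i.1 / 10, by omega⟩ ⟨i.1 % 10, by omega⟩

def permHChunk : Fin 5 → Fin 10 → Fin 50 := ![
  ![1, 3, 5, 2, 8, 6, 11, 13, 15, 17],
  ![18, 0, 20, 21, 22, 24, 26, 28, 30, 32],
  ![14, 33, 34, 35, 37, 23, 39, 41, 25, 9],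
  ![40, 43, 44, 19, 42, 29, 27, 46, 4, 47],
  ![36, 10, 49, 16, 7, 45, 38, 48, 31, 12]]

def permH (i : Fin 50) : Fin 50 := permHChunk ⟨i.1 / 10, by omega⟩ ⟨i.1 % 10, by omega⟩

def repMatChunk : Fin 5 → Fin 10 → M25 := ![
  ![!![⟨1, 0⟩, ⟨0, 0⟩, ⟨0, 0⟩; ⟨0, 0⟩, ⟨1, 0⟩, ⟨0, 0⟩; ⟨0, 0⟩, ⟨0, 0⟩, ⟨1, 0⟩], !![⟨3, 3⟩, ⟨3, 0⟩, ⟨3, 3⟩; ⟨1, 0⟩, ⟨4, 2⟩, ⟨2, 1⟩; ⟨2, 0⟩, ⟨1, 1⟩, ⟨1, 2⟩], !![⟨1, 4⟩, ⟨2, 1⟩, ⟨0, 0⟩; ⟨4, 0⟩, ⟨2, 4⟩, ⟨0, 1⟩; ⟨2, 3⟩, ⟨2, 1⟩, ⟨1, 2⟩], !![⟨3, 4⟩, ⟨1, 2⟩, ⟨4, 0⟩; ⟨4, 0⟩, ⟨3, 4⟩, ⟨4, 2⟩; ⟨0, 1⟩, ⟨3, 2⟩, ⟨2, 4⟩], !![⟨2, 2⟩, ⟨3, 0⟩, ⟨1, 0⟩; ⟨2, 0⟩, ⟨0, 1⟩, ⟨1, 1⟩; ⟨3, 3⟩, ⟨1, 4⟩, ⟨3, 3⟩], !![⟨1,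 0⟩, ⟨2, 2⟩, ⟨3, 0⟩; ⟨1, 1⟩, ⟨2, 0⟩, ⟨0, 1⟩; ⟨3, 3⟩, ⟨3, 3⟩, ⟨1, 4⟩], !![⟨1, 4⟩, ⟨4, 0⟩, ⟨1, 0⟩; ⟨4, 1⟩, ⟨0, 1⟩, ⟨4, 1⟩; ⟨1, 2⟩, ⟨2, 1⟩, ⟨2, 3⟩], !![⟨1, 4⟩, ⟨4, 0⟩, ⟨3, 3⟩; ⟨1, 0⟩, ⟨1, 3⟩, ⟨2, 1⟩; ⟨2, 3⟩, ⟨3, 1⟩, ⟨1, 3⟩], !![⟨0, 1⟩, ⟨3, 2⟩, ⟨3, 1⟩; ⟨1, 0⟩, ⟨1, 4⟩, ⟨3, 3⟩; ⟨0, 3⟩, ⟨2, 2⟩, ⟨0, 1⟩], !![⟨4, 1⟩, ⟨1, 4⟩, ⟨1, 3⟩; ⟨0, 1⟩, ⟨1, 0⟩, ⟨2, 1⟩; ⟨4, 4⟩, ⟨1, 0⟩, ⟨1, 0⟩]],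
  ![!![⟨3, 3⟩, ⟨3, 3⟩, ⟨4, 1⟩; ⟨0, 4⟩, ⟨2, 1⟩, ⟨2, 2⟩; ⟨3, 4⟩, ⟨0, 1⟩, ⟨3, 3⟩], !![⟨2, 2⟩, ⟨0, 1⟩, ⟨0, 3⟩; ⟨4, 1⟩, ⟨4, 4⟩, ⟨0, 1⟩; ⟨3, 2⟩, ⟨2, 0⟩, ⟨2, 3⟩], !![⟨4, 0⟩, ⟨3, 4⟩, ⟨4, 2⟩; ⟨0, 1⟩, ⟨3, 2⟩, ⟨2, 4⟩; ⟨3, 4⟩, ⟨1, 2⟩, ⟨4, 0⟩], !![⟨0, 1⟩, ⟨0, 3⟩, ⟨2, 2⟩; ⟨4, 4⟩, ⟨0, 1⟩, ⟨4, 1⟩; ⟨2, 0⟩, ⟨2, 3⟩, ⟨3, 2⟩], !![⟨2, 3⟩, ⟨1, 2⟩, ⟨2, 4⟩; ⟨3, 4⟩, ⟨4, 4⟩, ⟨0, 0⟩; ⟨0, 4⟩, ⟨3, 0⟩, ⟨3, 0⟩], !![⟨0, 2⟩, ⟨3, 2⟩, ⟨0, 1⟩; ⟨2, 4⟩, ⟨0, 1⟩, ⟨4, 0⟩; ⟨0, 2⟩, ⟨3, 1⟩, ⟨2, 1⟩], !![⟨0, 0⟩, ⟨1, 4⟩, ⟨2, 1⟩; ⟨0, 1⟩, ⟨4, 0⟩, ⟨2, 4⟩; ⟨1, 2⟩, ⟨2, 3⟩, ⟨2, 1⟩], !![⟨1, 1⟩, ⟨3, 2⟩, ⟨3, 3⟩; ⟨2, 2⟩, ⟨1, 2⟩, ⟨2, 4⟩; ⟨2, 3⟩, ⟨3, 4⟩, ⟨1, 2⟩], !![⟨0,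 0⟩, ⟨0, 4⟩, ⟨1, 3⟩; ⟨3, 1⟩, ⟨0, 3⟩, ⟨3, 4⟩; ⟨4, 1⟩, ⟨4, 0⟩, ⟨2, 2⟩], !![⟨1, 2⟩, ⟨1, 4⟩, ⟨3, 0⟩; ⟨1, 1⟩, ⟨3, 2⟩, ⟨2, 2⟩; ⟨4, 1⟩, ⟨3, 3⟩, ⟨2, 2⟩]],
  ![!![⟨2, 3⟩, ⟨2, 1⟩, ⟨1, 2⟩; ⟨1, 4⟩, ⟨2, 1⟩, ⟨0, 0⟩; ⟨4, 0⟩, ⟨2, 4⟩, ⟨0, 1⟩], !![⟨1, 1⟩, ⟨3, 2⟩, ⟨2, 2⟩; ⟨4, 1⟩, ⟨3, 3⟩, ⟨2, 2⟩; ⟨1, 2⟩, ⟨1, 4⟩, ⟨3, 0⟩], !![⟨2, 1⟩, ⟨4, 0⟩, ⟨4, 3⟩; ⟨0, 4⟩, ⟨3, 1⟩, ⟨4, 0⟩; ⟨3, 3⟩, ⟨1, 3⟩, ⟨3, 1⟩], !![⟨3, 4⟩, ⟨4, 2⟩, ⟨4, 0⟩; ⟨3, 2⟩, ⟨2, 4⟩, ⟨0, 1⟩; ⟨1, 2⟩, ⟨4, 0⟩, ⟨3, 4⟩], !![⟨3, 3⟩, ⟨1, 4⟩, ⟨4, 0⟩; ⟨2, 1⟩, ⟨1, 0⟩, ⟨1, 3⟩; ⟨1, 3⟩, ⟨2, 3⟩, ⟨3, 1⟩], !![⟨1, 3⟩, ⟨3, 1⟩, ⟨3, 3⟩; ⟨4, 0⟩, ⟨4, 3⟩, ⟨2, 1⟩; ⟨3, 1⟩, ⟨4, 0⟩, ⟨0, 4⟩], !![⟨1, 1⟩,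 ⟨3, 3⟩, ⟨3, 2⟩; ⟨2, 2⟩, ⟨2, 4⟩, ⟨1, 2⟩; ⟨3, 2⟩, ⟨4, 3⟩, ⟨2, 1⟩], !![⟨1, 0⟩, ⟨3, 3⟩, ⟨4, 1⟩; ⟨1, 0⟩, ⟨3, 2⟩, ⟨1, 1⟩; ⟨3, 0⟩, ⟨3, 0⟩, ⟨0, 1⟩], !![⟨1, 3⟩, ⟨2, 3⟩, ⟨2, 4⟩; ⟨2, 0⟩, ⟨4, 4⟩, ⟨4, 3⟩; ⟨1, 1⟩, ⟨2, 2⟩, ⟨4, 0⟩], !![⟨0, 0⟩, ⟨0, 0⟩, ⟨1, 0⟩; ⟨1, 0⟩, ⟨0, 0⟩, ⟨0, 0⟩; ⟨0, 0⟩, ⟨1, 0⟩, ⟨0, 0⟩]],
  ![!![⟨1, 3⟩, ⟨3, 2⟩, ⟨0, 3⟩; ⟨3, 3⟩, ⟨1, 3⟩, ⟨2, 1⟩; ⟨2, 1⟩, ⟨0, 3⟩, ⟨3, 4⟩], !![⟨4, 1⟩, ⟨2, 3⟩, ⟨2, 2⟩; ⟨4, 0⟩, ⟨2, 1⟩, ⟨4, 3⟩; ⟨3, 3⟩, ⟨1, 3⟩, ⟨2, 1⟩], !![⟨0, 1⟩, ⟨4, 0⟩, ⟨2, 4⟩; ⟨1, 2⟩, ⟨2, 3⟩, ⟨2, 1⟩; ⟨0, 0⟩, ⟨1, 4⟩, ⟨2, 1⟩], !![⟨3, 1⟩, ⟨4, 0⟩, ⟨0, 4⟩; ⟨1, 3⟩, ⟨3, 1⟩, ⟨3, 3⟩; ⟨4, 0⟩, ⟨4, 3⟩, ⟨2, 1⟩], !![⟨4, 0⟩, ⟨2,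 4⟩, ⟨0, 1⟩; ⟨2, 3⟩, ⟨2, 1⟩, ⟨1, 2⟩; ⟨1, 4⟩, ⟨2, 1⟩, ⟨0, 0⟩], !![⟨2, 0⟩, ⟨2, 3⟩, ⟨4, 0⟩; ⟨2, 2⟩, ⟨2, 0⟩, ⟨3, 3⟩; ⟨1, 0⟩, ⟨2, 3⟩, ⟨3, 0⟩], !![⟨2, 0⟩, ⟨2, 3⟩, ⟨2, 2⟩; ⟨4, 1⟩, ⟨1, 3⟩, ⟨1, 1⟩; ⟨4, 3⟩, ⟨0, 2⟩, ⟨3, 3⟩], !![⟨2, 1⟩, ⟨3, 3⟩, ⟨1, 3⟩; ⟨3, 4⟩, ⟨2, 1⟩, ⟨0, 3⟩; ⟨0, 3⟩, ⟨1, 3⟩, ⟨3, 2⟩], !![⟨0, 0⟩, ⟨1, 0⟩, ⟨0, 0⟩; ⟨0, 0⟩, ⟨0, 0⟩, ⟨1, 0⟩; ⟨1, 0⟩, ⟨0, 0⟩, ⟨0, 0⟩], !![⟨2, 3⟩, ⟨3, 4⟩, ⟨1, 3⟩; ⟨1, 2⟩, ⟨3, 1⟩, ⟨4, 0⟩; ⟨3, 4⟩, ⟨0, 2⟩, ⟨3, 4⟩]],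
  ![!![⟨3, 2⟩, ⟨2, 4⟩, ⟨0, 1⟩; ⟨1, 2⟩, ⟨4, 0⟩, ⟨3, 4⟩; ⟨3, 4⟩, ⟨4, 2⟩, ⟨4, 0⟩], !![⟨3, 3⟩, ⟨1, 3⟩, ⟨3, 1⟩; ⟨2, 1⟩, ⟨4, 0⟩, ⟨4, 3⟩; ⟨0, 4⟩, ⟨3, 1⟩, ⟨4, 0⟩], !![⟨3, 4⟩, ⟨2, 1⟩, ⟨0, 3⟩; ⟨0, 3⟩, ⟨1, 3⟩, ⟨3, 2⟩; ⟨2, 1⟩, ⟨3, 3⟩, ⟨1, 3⟩], !![⟨0, 3⟩, ⟨1, 3⟩, ⟨3, 2⟩; ⟨2, 1⟩, ⟨3, 3⟩, ⟨1, 3⟩; ⟨3, 4⟩, ⟨2, 1⟩, ⟨0, 3⟩], !![⟨4, 2⟩, ⟨1, 4⟩, ⟨3, 0⟩; ⟨2, 1⟩, ⟨1, 3⟩, ⟨3, 2⟩; ⟨1, 0⟩, ⟨1, 1⟩, ⟨1, 0⟩], !![⟨1, 2⟩, ⟨2, 3⟩, ⟨2, 1⟩; ⟨0, 0⟩, ⟨1, 4⟩, ⟨2, 1⟩; ⟨0, 1⟩, ⟨4, 0⟩, ⟨2, 4⟩], !![⟨4, 1⟩, ⟨3, 3⟩, ⟨2, 2⟩; ⟨1, 2⟩, ⟨1, 4⟩, ⟨3, 0⟩; ⟨1, 1⟩, ⟨3, 2⟩, ⟨2, 2⟩], !![⟨1, 2⟩, ⟨4, 0⟩, ⟨3, 4⟩; ⟨3, 4⟩, ⟨4, 2⟩, ⟨4, 0⟩; ⟨3, 2⟩, ⟨2, 4⟩, ⟨0, 1⟩], !![⟨1,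 0⟩, ⟨4, 0⟩, ⟨4, 4⟩; ⟨2, 4⟩, ⟨0, 4⟩, ⟨3, 3⟩; ⟨0, 4⟩, ⟨2, 4⟩, ⟨2, 2⟩], !![⟨4, 0⟩, ⟨4, 3⟩, ⟨2, 1⟩; ⟨3, 1⟩, ⟨4, 0⟩, ⟨0, 4⟩; ⟨1, 3⟩, ⟨3, 1⟩, ⟨3, 3⟩]]]

def repMat (i : Fin 50) : M25 := repMatChunk ⟨i.1 / 10, by omega⟩ ⟨i.1 % 10, by omega⟩

def certRChunk : Fin 5 → Fin 10 → Fin 308 × Fin 308 := ![
  ![(12, 165), (38, 277), (22, 295), (29, 190), (2, 267), (30, 250), (54, 304), (33, 208), (34, 162), (23, 79)],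
  ![(24, 224), (43, 292), (21, 187), (89, 100), (16, 232), (44, 133), (13, 184), (3, 58), (104, 168), (32, 250)],
  ![(60, 208), (106, 56), (2, 63), (34, 171), (5, 177), (40, 54), (19, 148), (7, 276), (112, 196), (17, 109)],
  ![(55, 260), (97, 179), (19, 161), (16, 72), (0, 228), (61, 124), (49, 239), (4, 203), (46, 142), (20, 234)],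
  ![(36, 227), (40, 54), (36, 45), (9, 275), (50, 286), (11, 204), (4, 245), (0, 173), (21, 214), (17, 92)]]

def certR (i : Fin 50) : Fin 308 × Fin 308 := certRChunk ⟨i.1 / 10, by omega⟩ ⟨i.1 % 10, by omega⟩

def certHChunk : Fin 5 → Fin 10 → Fin 308 × Fin 308 := ![
  ![(103, 271), (14, 209), (8, 48), (113, 80), (40, 109), (89, 242), (9, 305), (17, 171), (79, 169), (17, 163)],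
  ![(16, 168), (5, 298), (36, 151), (79, 202), (1, 204), (84, 140), (6, 115), (7, 289), (27, 54), (64, 67)],
  ![(21, 258), (0, 78), (18, 63), (93, 285), (28, 106), (47, 257), (62, 230), (11, 222), (48, 206), (187, 165)],
  ![(73, 246), (60, 222), (58, 196), (8, 291), (9, 134), (54, 88), (17, 174), (107, 266), (72, 226), (27, 109)],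
  ![(47, 297), (3, 82), (29, 46), (16, 149), (26, 284), (2, 148), (34, 175), (12, 239), (1, 87), (63, 147)]]

def certH (i : Fin 50) : Fin 308 × Fin 308 := certHChunk ⟨i.1 / 10, by omega⟩ ⟨i.1 % 10, by omega⟩

def treeStepChunk : Fin 5 → Fin 10 → Fin 50 × Bool := ![
  ![(0, false), (0, true), (1, false), (1, true), (2, false), (2, true), (3, false), (4, false), (4, true), (5, false)],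
  ![(6, false), (6, true), (7, false), (7, true), (8, false), (8, true), (9, false), (9, true), (10, false), (11, false)],
  ![(12, true), (13, false), (14, true), (15, false), (15, true), (16, false), (16, true), (17, false), (17, true), (18, false)],
  ![(18, true), (19, false), (19, true), (21, true), (22, true), (23, true), (24, false), (24, true), (25, false), (26, true)],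
  ![(27, false), (27, true), (28, false), (31, true), (32, true), (37, false), (37, true), (39, true), (42, false), (42, true)]]

def treeStep (i : Fin 50) : Fin 50 × Bool := treeStepChunk ⟨i.1 / 10, by omega⟩ ⟨i.1 % 10, by omega⟩

def sepIdxChunk : Fin 5 → Fin 10 → Fin 105 := ![
  ![0, 0, 0, 0, 0, 0, 0, 0, 0, 0],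
  ![0, 0, 0, 0, 0, 0, 1, 0, 0, 0],
  ![0, 0, 0, 0, 1, 0, 0, 0, 0, 0],
  ![0, 0, 0, 0, 0, 0, 0, 0, 0, 0],
  ![0, 0, 0, 0, 0, 0, 0, 0, 0, 0]]

def sepIdx (i : Fin 50) : Fin 105 := sepIdxChunk ⟨i.1 / 10, by omega⟩ ⟨i.1 % 10, by omega⟩

def ptLowChunk : Fin 5 → Fin 10 → List ℤ := ![
  ![[4, 0, 0, 0, 0, 0, 0, 0, 0, 0, 0, 0, 0, 0, 0, 0, 0, 0, 0, 0, 0, 0, 0, 4], [2, 0, 0, 0, 0, 2, 2, 2, 0, 0, 0, 0, 0, 2, 0, 0, 2, 2, 0, 0, 0, 0, 0, 2], [2, 0, 0, 0, 0, 0, 0, 2, 2, 0, 0, 0, 0, 2, 0, 0, 0, 0, 2, 0, 0, 2, 2, 2], [2, 0, 0, 0, 0, 0, 2, 0, 0, 0, 0, 2, 2, 2, 0, 0, 0, 0, 0, 2, 0, 0, 2, 2], [2, 0, 0, 0, 0, 2, 0, 2, 0, 0, 0,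 2, 0, 0, 2, 0, 0, 0, 2, 2, 0, 0, 0, 2], [2, 2, 0, 0, 0, 2, 0, 0, 0, 2, 0, 2, 0, 2, 0, 0, 0, 0, 0, 0, 0, 2, 0, 2], [2, 2, 0, 0, 0, 0, 0, 0, 0, 0, 0, 0, 0, 2, 0, 2, 0, 2, 2, 2, 0, 0, 0, 2], [2, 0, 0, 0, 0, 0, 0, 2, 0, 2, 0, 0, 0, 0, 2, 2, 0, 2, 0, 0, 0, 2, 0, 2], [1, 1, 1, -3, 1, 1, 1, 1, 1, 1, 1, 1, 1, 1, 1, 1, 1, 1, 1, 1, 1, 1, 1, 1], [2, 0, 0, 2, 0, 0, 2, 0, 0, 0, 0, 2, 0, 0, 0, 0, 0, 2, 2, 0, 0, 2, 0, 2]],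
  ![[2, 0, 0, 2, 0, 0, 0, 0, 2, 0, 0, 0, 0, 0, 2, 2, 0, 0, 2, 0, 2, 0, 0, 2], [2, 0, 0, 0, 0, 0, 0, 0, 2, 2, 0, 0, 2, 2, 0, 2, 2, 0, 0, 0, 0, 0, 0, 2], [2, 0, 0, 0, 0, 0, 2, 2, 2, 2, 0, 2, 0, 0, 0, 0, 0, 0, 0, 0, 2, 0, 0, 2], [2, 0, 2, 0, 0, 0, 0, 0, 0, 2, 0, 2, 0, 0, 0, 0, 2, 2, 0, 2, 0, 0, 0, 2], [1, 1, 1, 1, -3, 1, 1, 1, 1, 1, 1, 1, 1, 1, 1, 1, 1, 1, 1, 1, 1, 1, 1, 1], [2, 0, 0, 0, 0, 0, 0, 0, 2, 0, 2, 2, 0, 0, 0, 2, 0, 0, 0, 2, 0, 2, 0, 2], [2, 0, 0, 0, 2, 0, 0, 0, 2, 0, 0, 2, 0, 2, 2, 0, 0, 2, 0, 0, 0, 0, 0, 2], [1, 1, 1, 1, 1, 1, 1, 1, 1, 1, -3, 1, 1, 1, 1, 1, 1, 1, 1, 1, 1, 1, 1, 1], [2, 0, 0, 0, 2,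 2, 0, 0, 0, 2, 0, 0, 0, 0, 2, 0, 2, 0, 0, 0, 2, 0, 0, 2], [2, 2, 0, 0, 0, 2, 2, 0, 0, 0, 0, 0, 0, 0, 0, 0, 0, 0, 2, 0, 2, 0, 2, 2]],
  ![[2, 0, 0, 0, 2, 2, 0, 0, 0, 0, 0, 0, 0, 0, 0, 0, 0, 2, 0, 2, 0, 2, 2, 2], [2, 0, 2, 0, 0, 0, 2, 0, 2, 0, 0, 0, 0, 0, 0, 2, 0, 2, 0, 0, 0, 0, 2, 2], [2, 0, 0, 0, 2, 0, 0, 0, 0, 2, 0, 2, 0, 0, 0, 2, 0, 0, 2, 0, 0, 0, 2, 2], [2, 0, 0, 0, 0, 2, 0, 0, 0, 0, 0, 2, 2, 0, 0, 2, 0, 2, 0, 0, 2, 0, 0, 2], [2, 0, 2, 0, 0, 2, 0, 0, 0, 0, 0, 0, 0, 0, 0, 2, 2, 0, 2, 0, 0, 2, 0, 2], [2, 0, 0, 0, 0, 2, 0, 0, 2, 2, 2, 0, 0, 0, 0, 0, 0, 2, 2, 0, 0, 0, 0, 2], [2, 0, 2, 0, 0, 2, 0, 0, 2, 0, 0,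 0, 0, 2, 0, 0, 0, 0, 0, 2, 2, 0, 0, 2], [1, 1, 1, 1, 1, 1, 1, 1, 1, 1, 1, 1, -3, 1, 1, 1, 1, 1, 1, 1, 1, 1, 1, 1], [2, 2, 0, 0, 0, 0, 0, 0, 2, 2, 0, 0, 0, 0, 2, 0, 0, 0, 0, 2, 0, 0, 2, 2], [2, 0, 0, 0, 0, 0, 2, 0, 0, 2, 2, 0, 0, 0, 0, 0, 2, 0, 0, 0, 0, 2, 2, 2]],
  ![[2, 0, 0, 0, 0, 0, 2, 0, 0, 0, 2, 0, 0, 0, 2, 0, 0, 2, 0, 2, 2, 0, 0, 2], [2, 0, 0, 2, 0, 0, 0, 0, 0, 0, 0, 0, 0, 2, 2, 0, 2, 0, 0, 2, 0, 2, 0, 2], [1, 1, -3, 1, 1, 1, 1, 1, 1, 1, 1, 1, 1, 1, 1, 1, 1, 1, 1, 1, 1, 1, 1, 1], [2, 0, 0, 2, 0, 2, 0, 0, 2, 0, 0, 2, 0, 0, 0, 0, 2, 0, 0, 0, 0, 0, 2, 2], [2, 2, 0, 0, 0, 0, 0, 0, 2, 0, 0, 0, 0, 0, 0, 0,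 2, 2, 0, 0, 2, 2, 0, 2], [2, 0, 0, 0, 0, 0, 0, 2, 0, 0, 0, 0, 0, 0, 0, 2, 2, 0, 0, 2, 2, 0, 2, 2], [2, 0, 2, 0, 0, 0, 0, 0, 0, 0, 0, 2, 0, 0, 2, 0, 0, 0, 0, 0, 2, 2, 2, 2], [2, 2, 0, 0, 0, 0, 2, 0, 0, 0, 0, 2, 0, 0, 2, 2, 2, 0, 0, 0, 0, 0, 0, 2], [2, 0, 0, 0, 0, 2, 2, 0, 2, 0, 0, 0, 2, 0, 2, 0, 0, 0, 0, 0, 0, 2, 0, 2], [2, 0, 0, 0, 0, 2, 0, 0, 0, 0, 2, 0, 0, 2, 2, 2, 0, 0, 0, 0, 0, 0, 2, 2]],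
  ![[1, -3, 1, 1, 1, 1, 1, 1, 1, 1, 1, 1, 1, 1, 1, 1, 1, 1, 1, 1, 1, 1, 1, 1], [1, 1, 1, 1, 1, 1, 1, -3, 1, 1, 1, 1, 1, 1, 1, 1, 1, 1, 1, 1, 1, 1, 1, 1], [2, 0, 0, 2, 0, 2, 2, 0, 0, 2, 0, 0, 0, 0, 0, 2, 0, 0, 0, 2, 0, 0, 0, 2], [2, 0, 2, 0, 0, 0, 2, 0, 0, 2, 0, 0, 0, 2, 2, 0, 0, 0, 2, 0, 0, 0, 0, 2], [2, 0, 0, 0, 0, 0, 0, 0, 0, 2, 0, 0, 2, 0, 0, 0, 0, 0, 2, 2, 2, 2, 0, 2], [2, 0, 0, 2, 0, 0, 0, 0, 0, 2, 0, 0, 0, 2, 0, 0, 0, 2, 0, 0, 2, 0, 2, 2], [2, 0, 0, 0, 2, 0, 2, 0, 2, 0, 0, 0, 0, 0, 0, 0, 2, 0, 2, 2, 0, 0, 0, 2], [2, 0, 0, 0, 0, 0, 0, 0, 0, 0, 2, 2, 0, 2, 0, 0, 2, 0, 2, 0, 2, 0, 0, 2], [2, 0, 0, 0, 2,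 0, 2, 0, 0, 0, 0, 0, 0, 2, 0, 2, 0, 0, 0, 0, 2, 2, 0, 2], [2, 0, 0, 0, 0, 0, 0, 0, 0, 0, 0, 0, 2, 0, 2, 0, 2, 2, 2, 0, 0, 0, 2, 2]]]

def ptLow (i : Fin 50) : List ℤ := ptLowChunk ⟨i.1 / 10, by omega⟩ ⟨i.1 % 10, by omega⟩

def ptHighChunk : Fin 5 → Fin 10 → List ℤ := ![
  ![[1, 1, 1, 1, 1, -3, 1, 1, 1, 1, 1, 1, 1, 1, 1, 1, 1, 1, 1, 1, 1, 1, 1, 1], [1, 1, 1, 1, 1, 1, -3, 1, 1, 1, 1, 1, 1, 1, 1, 1, 1, 1, 1, 1, 1, 1, 1, 1], [1, 1, 1, 1, 1, 1, 1, 1, -3, 1, 1, 1, 1, 1, 1, 1, 1, 1, 1, 1, 1, 1, 1, 1], [1, 1, 1, 1, 1, 1, 1, 1, 1, -3, 1, 1, 1, 1, 1, 1, 1, 1, 1, 1, 1, 1, 1, 1], [1, 1, 1, 1, 1, 1, 1, 1, 1, 1, 1, -3, 1,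 1, 1, 1, 1, 1, 1, 1, 1, 1, 1, 1], [1, 1, 1, 1, 1, 1, 1, 1, 1, 1, 1, 1, 1, -3, 1, 1, 1, 1, 1, 1, 1, 1, 1, 1], [1, 1, 1, 1, 1, 1, 1, 1, 1, 1, 1, 1, 1, 1, -3, 1, 1, 1, 1, 1, 1, 1, 1, 1], [1, 1, 1, 1, 1, 1, 1, 1, 1, 1, 1, 1, 1, 1, 1, -3, 1, 1, 1, 1, 1, 1, 1, 1], [1, 1, 1, 1, 1, 1, 1, 1, 1, 1, 1, 1, 1, 1, 1, 1, -3, 1, 1, 1, 1, 1, 1, 1], [1, 1, 1, 1, 1, 1, 1, 1, 1, 1, 1, 1, 1, 1, 1, 1, 1, -3, 1, 1, 1, 1, 1, 1]],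
  ![[1, 1, 1, 1, 1, 1, 1, 1, 1, 1, 1, 1, 1, 1, 1, 1, 1, 1, -3, 1, 1, 1, 1, 1], [1, 1, 1, 1, 1, 1, 1, 1, 1, 1, 1, 1, 1, 1, 1, 1, 1, 1, 1, -3, 1, 1, 1, 1], [1, 1, 1, 1, 1, 1, 1, 1, 1, 1, 1, 1, 1, 1, 1, 1, 1, 1, 1, 1, -3, 1, 1, 1], [1, 1, 1, 1, 1, 1, 1, 1, 1, 1, 1, 1, 1, 1, 1, 1, 1, 1, 1, 1, 1, -3, 1, 1], [1, 1, 1, 1, 1, 1, 1, 1, 1, 1, 1, 1, 1, 1, 1, 1, 1, 1, 1, 1, 1, 1, -3, 1], [2, 0, 2, 0, 2, 2, 2, 0, 0, 0, 2, 2, 0, 0, 0, 0, 0, 0, 0, 0, 0, 0, 0, 2], [2, 2, 0, 2, 0, 0, 2, 0, 2, 0, 2, 0, 0, 2, 0, 0, 0, 0, 0, 0, 0, 0, 0, 2], [2, 0, 0, 2, 0, 0, 0, 0, 0, 2, 2, 2, 2, 0, 2, 0, 0, 0, 0, 0, 0, 0, 0, 2], [2, 2, 0, 0,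 2, 2, 0, 2, 2, 0, 0, 0, 0, 0, 0, 2, 0, 0, 0, 0, 0, 0, 0, 2], [2, 0, 2, 2, 0, 0, 0, 2, 0, 0, 0, 2, 0, 2, 0, 2, 0, 0, 0, 0, 0, 0, 0, 2]],
  ![[2, 0, 2, 0, 0, 0, 0, 2, 2, 0, 2, 0, 0, 0, 2, 0, 2, 0, 0, 0, 0, 0, 0, 2], [2, 2, 0, 0, 2, 0, 2, 0, 0, 2, 0, 0, 2, 0, 0, 0, 0, 2, 0, 0, 0, 0, 0, 2], [2, 2, 2, 2, 0, 2, 0, 0, 0, 0, 0, 0, 0, 0, 2, 0, 0, 2, 0, 0, 0, 0, 0, 2], [2, 0, 0, 2, 2, 0, 0, 0, 0, 0, 2, 0, 0, 0, 0, 2, 2, 2, 0, 0, 0, 0, 0, 2], [2, 2, 2, 0, 0, 0, 0, 0, 2, 0, 0, 2, 2, 0, 0, 0, 0, 0, 2, 0, 0, 0, 0, 2], [2, 0, 0, 2, 2, 2, 0, 0, 0, 0, 0, 0, 2, 2, 0, 0, 0, 0, 2, 0, 0, 0, 0, 2], [2, 0, 0, 0, 0, 0, 2, 2, 0, 0,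 2, 0, 2, 0, 0, 2, 0, 0, 2, 0, 0, 0, 0, 2], [2, 2, 0, 2, 0, 0, 0, 2, 0, 2, 0, 0, 0, 0, 0, 0, 2, 0, 2, 0, 0, 0, 0, 2], [2, 0, 0, 0, 2, 0, 0, 2, 0, 2, 2, 0, 0, 2, 0, 0, 0, 0, 0, 2, 0, 0, 0, 2], [2, 0, 2, 0, 2, 0, 0, 0, 0, 0, 0, 0, 2, 0, 2, 2, 0, 0, 0, 2, 0, 0, 0, 2]],
  ![[2, 2, 0, 0, 0, 2, 0, 0, 0, 0, 2, 0, 2, 0, 0, 0, 2, 0, 0, 2, 0, 0, 0, 2], [2, 0, 0, 2, 0, 0, 0, 2, 2, 0, 0, 0, 2, 0, 0, 0, 0, 2, 0, 2, 0, 0, 0, 2], [2, 2, 0, 0, 0, 0, 0, 2, 0, 0, 0, 0, 2, 2, 2, 0, 0, 0, 0, 0, 2, 0, 0, 2], [2, 2, 2, 0, 0, 0, 0, 0, 0, 2, 2, 0, 0, 0, 0, 2, 0, 0, 0, 0, 2, 0, 0, 2], [2, 0, 2, 2, 0, 0, 2, 0, 0, 0, 0, 0, 2, 0, 0, 0,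 2, 0, 0, 0, 2, 0, 0, 2], [2, 0, 2, 0, 2, 0, 0, 2, 0, 0, 0, 0, 0, 0, 0, 0, 0, 2, 2, 0, 2, 0, 0, 2], [2, 2, 0, 2, 2, 0, 0, 0, 0, 0, 0, 2, 0, 0, 0, 0, 0, 0, 0, 2, 2, 0, 0, 2], [2, 0, 2, 2, 2, 0, 0, 0, 2, 2, 0, 0, 0, 0, 0, 0, 0, 0, 0, 0, 0, 2, 0, 2], [2, 0, 0, 0, 2, 0, 0, 2, 0, 0, 0, 2, 2, 0, 0, 0, 2, 0, 0, 0, 0, 2, 0, 2], [2, 0, 2, 0, 0, 0, 0, 0, 0, 0, 2, 0, 2, 2, 0, 0, 0, 2, 0, 0, 0, 2, 0, 2]],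
  ![[2, 2, 0, 0, 2, 0, 0, 0, 0, 0, 2, 0, 0, 0, 2, 0, 0, 0, 2, 0, 0, 2, 0, 2], [2, 2, 2, 0, 0, 0, 2, 2, 0, 0, 0, 0, 0, 0, 0, 0, 0, 0, 0, 2, 0, 2, 0, 2], [2, 0, 0, 2, 0, 2, 0, 2, 0, 0, 2, 0, 0, 0, 0, 0, 0, 0, 0, 0, 2, 2, 0, 2], [2, 0, 2, 0, 0, 2, 0, 2, 0, 2, 0, 0, 2, 0, 0, 0, 0, 0, 0, 0, 0, 0, 2, 2], [2, 0, 0, 2, 2, 0, 2, 2, 0, 0, 0, 0, 0, 0, 2, 0, 0, 0, 0, 0, 0, 0, 2, 2], [2, 2, 2, 0, 2, 0, 0, 0, 0, 0, 0, 0, 0, 2, 0, 0, 2, 0, 0, 0, 0, 0, 2, 2], [2, 2, 0, 0, 0, 0, 0, 2, 0, 0, 2, 2, 0, 0, 0, 0, 0, 2, 0, 0, 0, 0, 2, 2], [2, 0, 2, 2, 0, 0, 0, 0, 0, 0, 2, 0, 0, 0, 0, 0, 0, 0, 2, 2, 0, 0, 2, 2], [2, 0, 0, 0, 2, 0,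 0, 0, 2, 0, 2, 0, 2, 0, 0, 0, 0, 0, 0, 0, 2, 0, 2, 2], [2, 2, 0, 2, 0, 0, 0, 0, 0, 0, 0, 0, 2, 0, 0, 2, 0, 0, 0, 0, 0, 2, 2, 2]]]

def ptHigh (i : Fin 50) : List ℤ := ptHighChunk ⟨i.1 / 10, by omega⟩ ⟨i.1 % 10, by omega⟩

/-- The third vector. -/
def xList : List ℤ := [2, 2, 2, 2, 2, 0, 0, 2, 0, 0, 2, 0, 2, 0, 0, 0, 0, 0, 0, 0, 0, 0, 0, 0]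

def tabA : List ℕ := [23, 5, 17, 3, 9, 15, 0, 16, 10, 2, 21, 14, 12, 20, 18, 11, 19, 22, 4, 13, 8, 6, 1, 7]

def tabAInv : List ℕ := [6, 22, 9, 3, 18, 1, 21, 23, 20, 4, 8, 15, 12, 19, 11, 5, 7, 2, 14, 16, 13, 10, 17, 0]

def tabB : List ℕ := [6, 1, 2, 0, 15, 21, 9, 5, 17, 22, 12, 11, 13, 4, 19, 10, 18, 7, 20, 16, 14, 8, 3, 23]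

def tabBInv : List ℕ := [3, 1, 2, 22, 13, 7, 0, 17, 21, 6, 15, 11, 10, 12, 20, 4, 19, 8, 16, 14, 18, 5, 9, 23]

def tabC : List ℕ := [3, 18, 9, 6, 22, 4, 19, 8, 1, 2, 12, 16, 23, 14, 20, 17, 5, 10, 7, 13, 15, 11, 21, 0]

def tabCInv : List ℕ := [23, 8, 9, 0, 5, 16, 3, 18, 7, 2, 17, 21, 10, 19, 13, 20, 11, 15, 1, 6, 14, 22, 4, 12]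

def tabR : List ℕ := [0, 3, 2, 4, 10, 21, 13, 7, 5, 6, 12, 17, 1, 18, 9, 20, 22, 8, 14, 15, 16, 11, 19, 23]

def tabRInv : List ℕ := [0, 12, 2, 1, 3, 8, 9, 7, 17, 14, 4, 21, 10, 6, 18, 19, 20, 11, 13, 22, 15, 5, 16, 23]

/-- A word of order 7. -/
def word7 : List Bool := [true]

/-- A word of order 8. -/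
def word8 : List Bool := [true, true, false, false]

/-- A word of order 6. -/
def word3 : List Bool := [true, true, false]

end CfsgLib.HSFifty
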